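import Cfsg.Agent.Lib.FgsC.Wreath.Code

/-!
Computations: automorphisms of `D8 ≀ C2`, its extensions by an automorphism of order two, the witnesses.
-/

set_option autoImplicit false
set_option Elab.async false

namespace CfsgLib.FgsC.Wreath

/-! ### automorphisms -/

/-- relations between the generators -/
def rels : List (List ℕ × List ℕ) :=
  [([1, 1, 1, 1], []), ([4, 4], []), ([1, 4, 1, 4], []), ([64, 64], []), ([1, 64, 1, 64], [64, 1, 64, 1]),
    ([1, 64, 4, 64], [64, 4, 64, 1]), ([4, 64, 4, 64], [64, 4, 64, 4])]

theorem rels_true : ∀ p ∈ rels, (∀ g ∈ p.1, g = 1 ∨ g = 4 ∨ g = 64) ∧ (∀ g ∈ p.2, g = 1 ∨ g = 4 ∨ g = 64) ∧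
    fold p.1 = fold p.2 := by decide +kernel

/-- a word for the central involution -/
def zWord : List ℕ := [1, 1, 64, 1, 1, 64]

theorem zWord_ne : fold zWord ≠ 0 := by decide +kernel

/-- the relations hold at a triple, seen stage by stage -/
def validA (A : ℕ) : Bool := fold [A, A, A, A] == 0 && !(fold [A, A] == 0)

def validB (A B : ℕ) : Bool := fold [B, B] == 0 && fold [A, B, A, B] == 0

def validS (A B S : ℕ) : Bool :=
  fold [S, S] == 0 && fold [A, S, A, S] == fold [S, A, S, A] && fold [A, S, B, S] == fold [S, B, S, A] &&
    fold [B, S, B, S] == fold [S, B, S, B] && !(fold [A, A, S, A, A, S] == 0)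

theorem aa_ne : fold [1, 1] ≠ 0 := by decide +kernel

/-- every admissible triple is conjugate to one of the eight representatives -/
def normChk : Bool :=
  (List.range 128).all fun A => !validA A || (List.range 128).all fun B => !validB A B ||
    (List.range 128).all fun S => !validS A B S ||
      (List.range 128).any fun g => reps.contains ((cj g A, cj g B, cj g S) : Tr)

/-- the check for one first entry -/
def normRow (A : ℕ) : Bool :=
  !validA A || (List.range 128).all fun B => !validB A B ||
    (List.range 128).all fun S => !validS A B S ||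
      (List.range 128).any fun g => reps.contains ((cj g A, cj g B, cj g S) : Tr)

theorem normChk_block0 : ((List.range' 0 32).all normRow) = true := by decide +kernel

theorem normChk_block1 : ((List.range' 32 32).all normRow) = true := by decide +kernel

theorem normChk_block2 : ((List.range' 64 32).all normRow) = true := by decide +kernel

theorem normChk_block3 : ((List.range' 96 32).all normRow) = true := by decide +kernel

theorem normChk_eq : normChk = true := by
  refine List.all_eq_true.2 fun A hA => ?_
  rw [List.mem_range] at hA
  show normRow A = true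
  by_cases h1 : A < 32
  · exact List.all_eq_true.1 normChk_block0 A (List.mem_range'_1.2 (by omega))
  by_cases h2 : A < 64
  · exact List.all_eq_true.1 normChk_block1 A (List.mem_range'_1.2 (by omega))
  by_cases h3 : A < 96
  · exact List.all_eq_true.1 normChk_block2 A (List.mem_range'_1.2 (by omega))
  exact List.all_eq_true.1 normChk_block3 A (List.mem_range'_1.2 (by omega))

/-- the possible squares -/
def pairChk : Bool :=
  reps.all fun r => (List.range 128).all fun a0 =>
    !(aut r a0 == a0 && ([1, 4, 64] : List ℕ).all fun g => aut r (aut r g) == cj a0 g) ||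
      (badExt.map fun e => (e.1, e.2.1)).contains (r, a0) || (goodExt.map fun e => (e.1, e.2.1)).contains (r, a0)

theorem pairChk_eq : pairChk = true := by decide +kernel

/-! ### the two normal elementary abelian subgroups of order sixteen -/

def inV1 (x : ℕ) : Bool := x < 64 && [0, 2, 5, 7].contains (x % 8) && [0, 2, 5, 7].contains (x / 8)

def inV2 (x : ℕ) : Bool := x < 64 && [0, 2, 4, 6].contains (x % 8) && [0, 2, 4, 6].contains (x / 8)

theorem inV_cover : ∀ x < 128, pm x x = 0 →
    ((List.range 128).all fun g => pm x (cj g x) == pm (cj g x) x) = true → inV1 x || inV2 x = true := by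
  decide +kernel

theorem inV_card : ((List.range 128).filter inV1).length = 16 ∧ ((List.range 128).filter inV2).length = 16 := by
  decide +kernel

theorem inV_cj : ∀ g < 128, ∀ x < 128, inV1 x = true → inV1 (cj g x) = true := by decide +kernel

theorem good_swaps : ∀ e ∈ goodExt, ∀ x < 128,
    (inV1 x = true → inV2 (aut e.1 x) = true) ∧ (inV2 x = true → inV1 (aut e.1 x) = true) := by decide +kernel

theorem center_chk : ∀ x < 128, pm x 1 = pm 1 x → pm x 4 = pm 4 x → pm x 64 = pm 64 x → x = 0 ∨ x = 18 := by
  decide +kernel

theorem eighteen_central : ∀ x < 128, pm x 18 = pm 18 x := by decide +kernel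

/-! ### extensions -/

/-- product in the extension by an automorphism with square the inner one of `a0` -/
def me (T : Tr) (a0 i j : ℕ) : ℕ :=
  if i / 128 = 0 then pm (i % 128) (j % 128) + 128 * (j / 128)
  else if j / 128 = 0 then pm (i % 128) (aut T (j % 128)) + 128
  else pm (pm (i % 128) (aut T (j % 128))) a0

def lab (W i : ℕ) : ℕ := W / 2 ^ (6 * i) % 64

/-- a labelled subgroup with quotient elementary abelian of order `32` -/
def witChk (T : Tr) (a0 W : ℕ) : Bool :=
  lab W 0 == 1 && ((List.range 32).all fun m => (List.range 256).any fun i => lab W i == m + 1) &&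
    ((List.range 256).all fun i => lab W i == 0 || (List.range 256).all fun j => lab W j == 0 ||
      (fun k => !(lab W k == 0) && (List.range 5).all fun t =>
        (lab W k - 1) / 2 ^ t % 2 == ((lab W i - 1) / 2 ^ t % 2 + (lab W j - 1) / 2 ^ t % 2) % 2) (me T a0 i j))

theorem witChk_eq : (badExt.all fun e => witChk e.1 e.2.1 e.2.2) = true := by decide +kernel

/-- the map onto `D8 ≀ C2` given by the images of the four generators -/
def proj (im : ℕ × ℕ × ℕ × ℕ) (i : ℕ) : ℕ :=
  fold ((wd (i % 128)).map (sub (im.1, im.2.1, im.2.2.1)) ++ List.replicate (i / 128) im.2.2.2)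

/-- a word in the four generators of the extension -/
def wd' (j : ℕ) : List ℕ := wd (j % 128) ++ List.replicate (j / 128) 128

def projChk (T : Tr) (a0 : ℕ) (im : ℕ × ℕ × ℕ × ℕ) : Bool :=
  ((List.range 256).all fun i => (([1, 4, 64, 128] : List ℕ).all fun g =>
      proj im (me T a0 i g) == pm (proj im i) (proj im g)) && (!(proj im i == 0) || i == 0 || i == 18) &&
      (wd' i).foldl (me T a0) 0 == i && (wd' i).all fun g => ([1, 4, 64, 128] : List ℕ).contains g) &&
    proj im 0 == 0 && proj im 18 == 0 && (List.range 128).all fun m => (List.range 256).any fun i => proj im i == m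

theorem projChk_eq : (goodExt.all fun e => projChk e.1 e.2.1 e.2.2) = true := by decide +kernel

end CfsgLib.FgsC.Wreath
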