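import Cfsg.Agent.Lib.FgsC.Wreath.Data
import Mathlib.GroupTheory.Sylow
import Mathlib.GroupTheory.Perm.Basic
import Mathlib.Data.Fintype.Perm
import Mathlib.Tactic.Group

/-!
`D8 ≀ C2` in codes below `128`: a code `i + 4 j + 8 (k + 4 l) + 64 u` stands for
`(rⁱ sʲ, rᵏ sˡ) σᵘ`.
-/

set_option autoImplicit false

namespace CfsgLib.FgsC.Wreath

/-- product in `D8` -/
def dm (A B : ℕ) : ℕ := (A % 4 + (if A / 4 = 0 then B % 4 else 4 - B % 4)) % 4 + 4 * ((A / 4 + B / 4) % 2)

/-- product in `D8 ≀ C2` -/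
def pm (x y : ℕ) : ℕ :=
  dm (x % 8) (if x / 64 = 0 then y % 8 else y / 8 % 8) +
    8 * dm (x / 8 % 8) (if x / 64 = 0 then y / 8 % 8 else y % 8) + 64 * ((x / 64 + y / 64) % 2)

/-- a word in the three generators `1`, `4`, `64` -/
def wd (x : ℕ) : List ℕ :=
  List.replicate (x % 4) 1 ++ List.replicate (x / 4 % 2) 4 ++ [64] ++ List.replicate (x / 8 % 4) 1 ++
    List.replicate (x / 32 % 2) 4 ++ [64] ++ List.replicate (x / 64) 64

def fold (L : List ℕ) : ℕ := L.foldl pm 0

def sub (T : Tr) (g : ℕ) : ℕ := if g = 1 then T.1 else if g = 4 then T.2.1 else T.2.2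

/-- the endomorphism with the given values at the generators -/
def aut (T : Tr) (x : ℕ) : ℕ := fold ((wd x).map (sub T))

def pinv (x : ℕ) : ℕ := fold ((wd x).reverse.map fun g => if g = 1 then 3 else g)

def cj (g x : ℕ) : ℕ := pm (pm g x) (pinv g)

theorem dm_lt (A B : ℕ) : dm A B < 8 := by unfold dm; omega

theorem pm_lt (x y : ℕ) : pm x y < 128 := by
  unfold pm
  have := dm_lt (x % 8) (if x / 64 = 0 then y % 8 else y / 8 % 8)
  have := dm_lt (x / 8 % 8) (if x / 64 = 0 then y / 8 % 8 else y % 8)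
  omega

theorem foldl_lt : ∀ (L : List ℕ) (a : ℕ), a < 128 → L.foldl pm a < 128
  | [], _, h => h
  | g :: L, a, _ => foldl_lt L _ (pm_lt a g)

theorem fold_lt (L : List ℕ) : fold L < 128 := foldl_lt L 0 (by norm_num)

theorem aut_lt (T : Tr) (x : ℕ) : aut T x < 128 := fold_lt _

theorem cj_lt (g x : ℕ) : cj g x < 128 := pm_lt _ _

theorem pinv_lt (x : ℕ) : pinv x < 128 := fold_lt _

/-! ### computed facts -/

theorem fold_wd : ∀ x < 128, fold (wd x) = x := by decide +kernel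

theorem wd_mem : ∀ x < 128, ∀ g ∈ wd x, g = 1 ∨ g = 4 ∨ g = 64 := by decide +kernel

theorem pm_pinv : ∀ x < 128, pm x (pinv x) = 0 := by decide +kernel

theorem pm_pinv_cancel : ∀ x < 128, ∀ y < 128, pm (pm x (pinv y)) y = x := by decide +kernel

theorem pm_zero : ∀ x < 128, pm 0 x = x ∧ pm x 0 = x := by decide +kernel

theorem assoc_gen : ∀ x < 128, ∀ y < 128, ∀ g ∈ [1, 4, 64], pm x (pm y g) = pm (pm x y) g := by decide +kernel

/-! ### the permutations -/

def permA : Equiv.Perm (Fin 8) :=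
  ⟨![1, 2, 3, 0, 4, 5, 6, 7], ![3, 0, 1, 2, 4, 5, 6, 7], by decide, by decide⟩

def permB : Equiv.Perm (Fin 8) :=
  ⟨![0, 3, 2, 1, 4, 5, 6, 7], ![0, 3, 2, 1, 4, 5, 6, 7], by decide, by decide⟩

def permS : Equiv.Perm (Fin 8) :=
  ⟨![4, 5, 6, 7, 0, 1, 2, 3], ![4, 5, 6, 7, 0, 1, 2, 3], by decide, by decide⟩

def permGen (g : ℕ) : Equiv.Perm (Fin 8) := if g = 1 then permA else if g = 4 then permB else permS

/-- the permutation of a code -/
def phi (x : ℕ) : Equiv.Perm (Fin 8) := ((wd x).map permGen).prod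

theorem phi_gen : ∀ x < 128, ∀ g ∈ [1, 4, 64], phi (pm x g) = phi x * phi g := by decide +kernel

theorem phi_ker : ∀ x < 128, phi x = 1 → x = 0 := by decide +kernel

theorem phi_zero : phi 0 = 1 := by decide +kernel

theorem phi_mul : ∀ x < 128, ∀ y < 128, phi (pm x y) = phi x * phi y := by
  have key : ∀ (L : List ℕ), (∀ g ∈ L, g = 1 ∨ g = 4 ∨ g = 64) → ∀ a < 128,
      (∀ x < 128, phi (pm x a) = phi x * phi a) →
        ∀ x < 128, phi (pm x (L.foldl pm a)) = phi x * phi (L.foldl pm a) := by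
    intro L
    induction L with
    | nil => exact fun _ a _ h => h
    | cons g L ih =>
      intro hL a ha h
      have hg : g ∈ [1, 4, 64] := by simpa using hL g List.mem_cons_self
      refine ih (fun k hk => hL k (List.mem_cons_of_mem _ hk)) _ (pm_lt _ _) fun x hx => ?_
      rw [assoc_gen x hx a ha g hg, phi_gen _ (pm_lt _ _) g hg, phi_gen a ha g hg, h x hx, mul_assoc]
  intro x hx y hy
  have := key (wd y) (wd_mem y hy) 0 (by norm_num)
    (fun z hz => by rw [(pm_zero z hz).2, phi_zero, mul_one]) x hx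
  rwa [show (wd y).foldl pm 0 = y from fold_wd y hy] at this

/-! ### copies of the group -/

/-- `f` is an injective homomorphism on codes -/
structure Emb {S : Type*} [Group S] (f : ℕ → S) : Prop where
  mul : ∀ x < 128, ∀ y < 128, f (pm x y) = f x * f y
  ker : ∀ x < 128, f x = 1 → x = 0

theorem emb_phi : Emb phi := ⟨phi_mul, phi_ker⟩

variable {S : Type*} [Group S] {f : ℕ → S}

theorem Emb.one (h : Emb f) : f 0 = 1 := by
  have := h.mul 0 (by norm_num) 0 (by norm_num)
  rw [(pm_zero 0 (by norm_num)).1] at this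
  exact mul_eq_left.1 this.symm

theorem Emb.inv (h : Emb f) {x : ℕ} (hx : x < 128) : f (pinv x) = (f x)⁻¹ :=
  eq_inv_of_mul_eq_one_right (by rw [← h.mul x hx _ (pinv_lt x), pm_pinv x hx, h.one])

theorem Emb.injective (h : Emb f) {x y : ℕ} (hx : x < 128) (hy : y < 128) (e : f x = f y) : x = y := by
  have h1 : pm x (pinv y) = 0 :=
    h.ker _ (pm_lt _ _) (by rw [h.mul x hx _ (pinv_lt y), h.inv hy, e, mul_inv_cancel])
  have h2 := pm_pinv_cancel x hx y hy
  rw [h1, (pm_zero y hy).1] at h2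
  exact h2.symm

theorem Emb.foldl (h : Emb f) : ∀ (L : List ℕ), (∀ g ∈ L, g < 128) → ∀ a < 128,
    f (L.foldl pm a) = f a * (L.map f).prod
  | [], _, a, _ => by simp
  | g :: L, hL, a, ha => by
    rw [List.foldl_cons, Emb.foldl h L (fun k hk => hL k (List.mem_cons_of_mem _ hk)) _ (pm_lt a g),
      h.mul a ha g (hL g List.mem_cons_self), List.map_cons, List.prod_cons, mul_assoc]

theorem Emb.fold (h : Emb f) {L : List ℕ} (hL : ∀ g ∈ L, g < 128) : f (fold L) = (L.map f).prod := by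
  rw [show CfsgLib.FgsC.Wreath.fold L = L.foldl pm 0 from rfl, h.foldl L hL 0 (by norm_num), h.one, one_mul]

theorem Emb.cj (h : Emb f) {g x : ℕ} (hg : g < 128) (hx : x < 128) :
    f (cj g x) = f g * f x * (f g)⁻¹ := by
  rw [CfsgLib.FgsC.Wreath.cj, h.mul _ (pm_lt _ _) _ (pinv_lt g), h.mul g hg x hx, h.inv hg]

end CfsgLib.FgsC.Wreath
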