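import Cfsg.Agent.Lib.FgsC.Wreath.Checks
import Cfsg.Prelude.Def_CaseTheorems
import Mathlib.GroupTheory.QuotientGroup.Basic
import Mathlib.Data.ZMod.Basic

/-!
A copy of `D8 ≀ C2` together with an element normalising it and squaring into it.
-/

set_option autoImplicit false

namespace CfsgLib.FgsC.Wreath

variable {S : Type*} [Group S]

/-- an extension of the copy `f` by `n` -/
structure Ext (f : ℕ → S) (T : Tr) (a0 : ℕ) (n : S) : Prop where
  emb : Emb f
  bound : a0 < 128
  conj : ∀ x < 128, n * f x * n⁻¹ = f (aut T x)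
  sq : n * n = f a0
  out : ∀ x < 128, n ≠ f x

variable {f : ℕ → S} {T : Tr} {a0 : ℕ} {n : S}

/-- the element of a code below `256` -/
def Fe (f : ℕ → S) (n : S) (i : ℕ) : S := f (i % 128) * n ^ (i / 128)

theorem me_lt {i j : ℕ} (hj : j < 256) : me T a0 i j < 256 := by
  unfold me
  have := pm_lt (i % 128) (j % 128)
  have := pm_lt (i % 128) (aut T (j % 128))
  have := pm_lt (pm (i % 128) (aut T (j % 128))) a0
  split_ifs <;> omega

theorem Ext.mul (h : Ext f T a0 n) {i j : ℕ} (hi : i < 256) (hj : j < 256) :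
    Fe f n (me T a0 i j) = Fe f n i * Fe f n j := by
  have hx : i % 128 < 128 := Nat.mod_lt _ (by norm_num)
  have hy : j % 128 < 128 := Nat.mod_lt _ (by norm_num)
  have hny : n * f (j % 128) = f (aut T (j % 128)) * n := mul_inv_eq_iff_eq_mul.1 (h.conj _ hy)
  unfold me Fe
  rcases (show i / 128 = 0 ∨ i / 128 = 1 by omega) with hu | hu <;>
    rcases (show j / 128 = 0 ∨ j / 128 = 1 by omega) with hv | hv <;> simp only [hu, hv, one_ne_zero, if_true, if_false]
  · have := pm_lt (i % 128) (j % 128)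
    rw [show (pm (i % 128) (j % 128) + 128 * 0) % 128 = pm (i % 128) (j % 128) by omega,
      show (pm (i % 128) (j % 128) + 128 * 0) / 128 = 0 by omega, h.emb.mul _ hx _ hy]
    simp
  · have := pm_lt (i % 128) (j % 128)
    rw [show (pm (i % 128) (j % 128) + 128 * 1) % 128 = pm (i % 128) (j % 128) by omega,
      show (pm (i % 128) (j % 128) + 128 * 1) / 128 = 1 by omega, h.emb.mul _ hx _ hy]
    simp [mul_assoc]
  · have := pm_lt (i % 128) (aut T (j % 128))
    rw [show (pm (i % 128) (aut T (j % 128)) + 128) % 128 = pm (i % 128) (aut T (j % 128)) by omega,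
      show (pm (i % 128) (aut T (j % 128)) + 128) / 128 = 1 by omega, h.emb.mul _ hx _ (aut_lt _ _)]
    simp only [pow_one, pow_zero, mul_one, mul_assoc, hny]
  · have := pm_lt (pm (i % 128) (aut T (j % 128))) a0
    rw [Nat.mod_eq_of_lt this, Nat.div_eq_of_lt this, h.emb.mul _ (pm_lt _ _) _ h.bound,
      h.emb.mul _ hx _ (aut_lt _ _), ← h.sq]
    simp only [pow_zero, pow_one, mul_one, mul_assoc]
    rw [← mul_assoc n (f _), hny, mul_assoc]

theorem Ext.injective (h : Ext f T a0 n) {i j : ℕ} (hi : i < 256) (hj : j < 256)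
    (e : Fe f n i = Fe f n j) : i = j := by
  have hx : i % 128 < 128 := Nat.mod_lt _ (by norm_num)
  have hy : j % 128 < 128 := Nat.mod_lt _ (by norm_num)
  unfold Fe at e
  rcases (show i / 128 = 0 ∨ i / 128 = 1 by omega) with hu | hu <;>
    rcases (show j / 128 = 0 ∨ j / 128 = 1 by omega) with hv | hv <;> rw [hu, hv] at e <;>
    simp only [pow_zero, pow_one, mul_one] at e
  · have := h.emb.injective hx hy e; omega
  · refine absurd ?_ (h.out (pm (pinv (j % 128)) (i % 128)) (pm_lt _ _))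
    rw [h.emb.mul _ (pinv_lt _) _ hx, h.emb.inv hy, e, inv_mul_cancel_left]
  · refine absurd ?_ (h.out (pm (pinv (i % 128)) (j % 128)) (pm_lt _ _))
    rw [h.emb.mul _ (pinv_lt _) _ hy, h.emb.inv hx, ← e, inv_mul_cancel_left]
  · have := h.emb.injective hx hy (mul_right_cancel e); omega

theorem Ext.one (h : Ext f T a0 n) : Fe f n 0 = 1 := by simp [Fe, h.emb.one]

/-- the group of the extension -/
def Ext.group [Finite S] (h : Ext f T a0 n) : Subgroup S :=
  Subgroup.closure {x | ∃ i < 256, Fe f n i = x}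

theorem Ext.mem_group [Finite S] (h : Ext f T a0 n) {x : S} : x ∈ h.group ↔ ∃ i < 256, Fe f n i = x := by
  let M : Submonoid S :=
    { carrier := {x | ∃ i < 256, Fe f n i = x}
      mul_mem' := by
        rintro _ _ ⟨i, hi, rfl⟩ ⟨j, hj, rfl⟩
        exact ⟨me T a0 i j, me_lt hj, h.mul hi hj⟩
      one_mem' := ⟨0, by norm_num, h.one⟩ }
  refine ⟨fun hx => ?_, fun hx => Subgroup.subset_closure hx⟩
  have h1 : x ∈ (Subgroup.closure (M : Set S)).toSubmonoid := hx
  rwa [Subgroup.closure_toSubmonoid_of_finite, Submonoid.closure_eq] at h1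

/-- a labelled subgroup contradicts the rank bound -/
theorem Ext.not_rank [Finite S] (h : Ext f T a0 n) {W : ℕ} (hw : witChk T a0 W = true)
    (hr : Cfsg.SectionalPRankLE 2 4 S) : False := by
  classical
  simp only [witChk, Bool.and_eq_true, List.all_eq_true, List.any_eq_true, List.mem_range, Bool.or_eq_true,
    beq_iff_eq, Bool.not_eq_true', beq_eq_false_iff_ne, ne_eq] at hw
  obtain ⟨⟨h0, hsurj⟩, hclosed⟩ := hw
  have hc : ∀ i < 256, lab W i ≠ 0 → ∀ j < 256, lab W j ≠ 0 → lab W (me T a0 i j) ≠ 0 ∧ ∀ t < 5,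
      (lab W (me T a0 i j) - 1) / 2 ^ t % 2 =
        ((lab W i - 1) / 2 ^ t % 2 + (lab W j - 1) / 2 ^ t % 2) % 2 := fun i hi hi0 j hj hj0 =>
    ((((hclosed i hi).resolve_left hi0) j hj).resolve_left hj0)
  let M : Submonoid S :=
    { carrier := {x | ∃ i < 256, lab W i ≠ 0 ∧ Fe f n i = x}
      mul_mem' := by
        rintro _ _ ⟨i, hi, hi0, rfl⟩ ⟨j, hj, hj0, rfl⟩
        exact ⟨me T a0 i j, me_lt hj, (hc i hi hi0 j hj hj0).1, h.mul hi hj⟩
      one_mem' := ⟨0, by norm_num, by omega, h.one⟩ }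
  set H : Subgroup S := Subgroup.closure (M : Set S)
  have hH : ∀ x ∈ H, ∃ i < 256, lab W i ≠ 0 ∧ Fe f n i = x := fun x hx => by
    have h1 : x ∈ H.toSubmonoid := hx
    rwa [Subgroup.closure_toSubmonoid_of_finite, Submonoid.closure_eq] at h1
  choose ix hix hix0 hixe using hH
  let bits : ℕ → Fin 5 → ZMod 2 := fun i t => (((lab W i - 1) / 2 ^ (t : ℕ) % 2 : ℕ) : ZMod 2)
  let χ : ↥H →* Multiplicative (Fin 5 → ZMod 2) := MonoidHom.mk'
    (fun x => Multiplicative.ofAdd (bits (ix x.1 x.2))) (by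
      intro x y
      rw [← ofAdd_add]
      congr 1
      have e : ix (x * y).1 (x * y).2 = me T a0 (ix x.1 x.2) (ix y.1 y.2) :=
        h.injective (hix _ _) (me_lt (hix _ _)) (by rw [h.mul (hix _ _) (hix _ _), hixe, hixe, hixe]; rfl)
      funext t
      show bits _ t = bits _ t + bits _ t
      simp only [bits, e]
      rw [(hc _ (hix _ _) (hix0 _ _) _ (hix _ _) (hix0 _ _)).2 t t.2, ZMod.natCast_mod, Nat.cast_add])
  have hsur : Function.Surjective χ := by
    intro v
    let m : ℕ := ∑ t : Fin 5, (Multiplicative.toAdd v t).val * 2 ^ (t : ℕ)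
    have hm : m < 32 ∧ ∀ t : Fin 5, ((m / 2 ^ (t : ℕ) % 2 : ℕ) : ZMod 2) = Multiplicative.toAdd v t := by
      have key : ∀ w : Fin 5 → ZMod 2, (∑ t : Fin 5, (w t).val * 2 ^ (t : ℕ)) < 32 ∧
          ∀ t : Fin 5, (((∑ s : Fin 5, (w s).val * 2 ^ (s : ℕ)) / 2 ^ (t : ℕ) % 2 : ℕ) : ZMod 2) = w t := by
        decide +kernel
      exact key _
    obtain ⟨i, hi, he⟩ := hsurj m hm.1
    have hx : Fe f n i ∈ H := Subgroup.subset_closure ⟨i, hi, by omega, rfl⟩
    refine ⟨⟨_, hx⟩, ?_⟩
    have e : ix (Fe f n i) hx = i := h.injective (hix _ _) hi (hixe _ _)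
    show Multiplicative.ofAdd (bits (ix (Fe f n i) hx)) = v
    rw [e, show bits i = Multiplicative.toAdd v from funext fun t => by
      simp only [bits, he, Nat.add_sub_cancel]; exact hm.2 t]
    exact ofAdd_toAdd v
  let φ := QuotientGroup.quotientKerEquivOfSurjective χ hsur
  have h1 := hr H χ.ker ⊤ ⟨⟨fun a b => Subtype.ext (φ.injective (by
      show φ (a.1 * b.1) = φ (b.1 * a.1)
      rw [map_mul, map_mul, mul_comm]))⟩⟩ (fun a _ => φ.injective (by
      rw [map_pow, map_one, pow_two]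
      refine Multiplicative.toAdd.injective (funext fun t => ?_)
      exact CharTwo.add_self_eq_zero _))
  rw [Subgroup.card_top, Nat.card_congr φ.toEquiv] at h1
  simp at h1

end CfsgLib.FgsC.Wreath
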