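import Cfsg.Agent.Lib.FgsC.Wreath.Ext
import Cfsg.Prelude.Def_Transfer
import Mathlib.GroupTheory.Nilpotent

/-!
`D8 ≀ C2` as a proper subgroup of a 2-group of sectional rank at most four.
-/

set_option autoImplicit false

namespace CfsgLib.FgsC.Wreath

theorem inV1_mul : ∀ x < 128, ∀ y < 128, inV1 x = true → inV1 y = true → inV1 (pm x y) = true := by decide +kernel

theorem inV2_mul : ∀ x < 128, ∀ y < 128, inV2 x = true → inV2 y = true → inV2 (pm x y) = true := by decide +kernel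

theorem inV2_cj : ∀ g < 128, ∀ x < 128, inV2 x = true → inV2 (cj g x) = true := by decide +kernel

theorem inV_zero : inV1 0 = true ∧ inV2 0 = true := by decide +kernel

/-- the copy of the group on eight points -/
def T0 : Subgroup (Equiv.Perm (Fin 8)) where
  carrier := {p | ∃ i < 128, phi i = p}
  mul_mem' := by
    rintro _ _ ⟨i, hi, rfl⟩ ⟨j, hj, rfl⟩
    exact ⟨pm i j, pm_lt _ _, phi_mul i hi j hj⟩
  one_mem' := ⟨0, by norm_num, phi_zero⟩
  inv_mem' := by
    rintro _ ⟨i, hi, rfl⟩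
    exact ⟨pinv i, pinv_lt i, emb_phi.inv hi⟩

theorem card_T0 : Nat.card ↥T0 = 128 := by
  have hb : Function.Bijective (fun i : Fin 128 => (⟨phi i, i, i.2, rfl⟩ : ↥T0)) :=
    ⟨fun i j e => Fin.ext (emb_phi.injective i.2 j.2 (congrArg Subtype.val e)), by
      rintro ⟨_, i, hi, rfl⟩
      exact ⟨⟨i, hi⟩, rfl⟩⟩
  rw [← Nat.card_congr (Equiv.ofBijective _ hb), Nat.card_fin]

/-- it is a Sylow subgroup -/
noncomputable def T0Syl : Sylow 2 (Equiv.Perm (Fin 8)) :=
  haveI : Fact (Nat.Prime 2) := ⟨Nat.prime_two⟩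
  (IsPGroup.of_card (n := 7) (G := ↥T0) (by rw [card_T0]; norm_num)).toSylow (by
    have h := T0.card_mul_index
    rw [card_T0, Nat.card_perm, Nat.card_fin, show Nat.factorial 8 = 128 * 315 by decide] at h
    rw [show T0.index = 315 by omega]
    norm_num)

theorem coe_T0Syl : (T0Syl : Subgroup (Equiv.Perm (Fin 8))) = T0 := rfl

variable {S : Type*} [Group S]

/-- `f` parametrises `P` -/
structure Ctx (f : ℕ → S) (P : Subgroup S) : Prop where
  emb : Emb f
  range : ∀ x, x ∈ P ↔ ∃ i < 128, f i = x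

theorem exists_ctx {P : Subgroup S}
    (hP : ∃ T : Sylow 2 (Equiv.Perm (Fin 8)), Nonempty (↥P ≃* ↥(T : Subgroup (Equiv.Perm (Fin 8))))) :
    ∃ f : ℕ → S, Ctx f P := by
  haveI : Fact (Nat.Prime 2) := ⟨Nat.prime_two⟩
  obtain ⟨T, ⟨e⟩⟩ := hP
  let e' : ↥P ≃* ↥T0 := (e.trans (T.equiv T0Syl)).trans (MulEquiv.subgroupCongr coe_T0Syl)
  refine ⟨fun i => if hi : i < 128 then ((e'.symm ⟨phi i, i, hi, rfl⟩ : ↥P) : S) else 1, ⟨?_, ?_⟩, ?_⟩
  · intro x hx y hy
    rw [dif_pos hx, dif_pos hy, dif_pos (pm_lt x y), ← Subgroup.coe_mul, ← map_mul]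
    exact congrArg (fun z => ((e'.symm z : ↥P) : S)) (Subtype.ext (phi_mul x hx y hy))
  · intro x hx h
    rw [dif_pos hx] at h
    have h1 : e'.symm ⟨phi x, x, hx, rfl⟩ = 1 := Subtype.ext h
    rw [← map_one e'.symm] at h1
    exact phi_ker x hx (congrArg Subtype.val (e'.symm.injective h1))
  · intro x
    constructor
    · intro hx
      obtain ⟨i, hi, he⟩ := (e' ⟨x, hx⟩).2
      refine ⟨i, hi, ?_⟩
      rw [dif_pos hi, show (⟨phi i, i, hi, rfl⟩ : ↥T0) = e' ⟨x, hx⟩ from Subtype.ext he, e'.symm_apply_apply]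
    · rintro ⟨i, hi, rfl⟩
      rw [dif_pos hi]
      exact SetLike.coe_mem _

variable {f : ℕ → S} {P : Subgroup S} [Finite S]

/-- a set of codes as a subgroup -/
def subOf (f : ℕ → S) (b : ℕ → Bool) : Subgroup S := Subgroup.closure {x | ∃ i < 128, b i = true ∧ f i = x}

theorem mem_subOf (c : Ctx f P) {b : ℕ → Bool} (h0 : b 0 = true)
    (hm : ∀ x < 128, ∀ y < 128, b x = true → b y = true → b (pm x y) = true) {x : S} :
    x ∈ subOf f b ↔ ∃ i < 128, b i = true ∧ f i = x := by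
  let M : Submonoid S :=
    { carrier := {x | ∃ i < 128, b i = true ∧ f i = x}
      mul_mem' := by
        rintro _ _ ⟨i, hi, bi, rfl⟩ ⟨j, hj, bj, rfl⟩
        exact ⟨pm i j, pm_lt _ _, hm i hi j hj bi bj, c.emb.mul i hi j hj⟩
      one_mem' := ⟨0, by norm_num, h0, c.emb.one⟩ }
  refine ⟨fun hx => ?_, fun hx => Subgroup.subset_closure hx⟩
  have h1 : x ∈ (Subgroup.closure (M : Set S)).toSubmonoid := hx
  rwa [Subgroup.closure_toSubmonoid_of_finite, Submonoid.closure_eq] at h1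

theorem mem_one (c : Ctx f P) {x : S} : x ∈ subOf f inV1 ↔ ∃ i < 128, inV1 i = true ∧ f i = x :=
  mem_subOf c inV_zero.1 inV1_mul

theorem mem_two (c : Ctx f P) {x : S} : x ∈ subOf f inV2 ↔ ∃ i < 128, inV2 i = true ∧ f i = x :=
  mem_subOf c inV_zero.2 inV2_mul

theorem card_subOf (c : Ctx f P) {b : ℕ → Bool} (h0 : b 0 = true)
    (hm : ∀ x < 128, ∀ y < 128, b x = true → b y = true → b (pm x y) = true)
    (hb : ((List.range 128).filter b).length = 16) : Nat.card ↥(subOf f b) = 16 := by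
  classical
  have hfin : (((List.range 128).filter b).toFinset.image f : Set S) = (subOf f b : Set S) := by
    ext x
    simp only [Finset.coe_image, Set.mem_image, Finset.mem_coe, List.mem_toFinset, List.mem_filter,
      List.mem_range, SetLike.mem_coe, mem_subOf c h0 hm, and_assoc]
  have h1 := Nat.card_congr (Equiv.setCongr hfin)
  rw [Nat.card_coe_set_eq, Set.ncard_coe_finset, Finset.card_image_of_injOn, List.toFinset_card_of_nodup, hb] at h1
  · exact h1.symm
  · exact List.nodup_range.filter _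
  · intro i hi j hj e
    simp only [Finset.mem_coe, List.mem_toFinset, List.mem_filter, List.mem_range] at hi hj
    exact c.emb.injective hi.1 hj.1 e

/-- an element squaring into `P` gives one of the good extensions -/
theorem good_ext (hr : Cfsg.SectionalPRankLE 2 4 S) (c : Ctx f P) {n : S}
    (hn : n ∈ Subgroup.normalizer (P : Set S)) (hnP : n ∉ P) (hsq : n * n ∈ P) :
    ∃ g < 128, ∃ e ∈ goodExt, Ext f e.1 e.2.1 (f g * n) := by
  have hc : ∀ x < 128, ∃ y < 128, f y = n * f x * n⁻¹ := fun x hx =>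
    (c.range _).1 ((Subgroup.mem_normalizer_iff.1 hn (f x)).1 ((c.range _).2 ⟨x, hx, rfl⟩))
  obtain ⟨A, hA, eA⟩ := hc 1 (by norm_num)
  obtain ⟨B, hB, eB⟩ := hc 4 (by norm_num)
  obtain ⟨C, hC, eC⟩ := hc 64 (by norm_num)
  have hsub : ∀ g, g = 1 ∨ g = 4 ∨ g = 64 → g < 128 ∧ sub (A, B, C) g < 128 ∧
      f (sub (A, B, C) g) = n * f g * n⁻¹ := by
    rintro g (rfl | rfl | rfl) <;> simp [sub, hA, hB, hC, eA, eB, eC]
  have himg : ∀ L : List ℕ, (∀ g ∈ L, g = 1 ∨ g = 4 ∨ g = 64) →
      f (fold (L.map (sub (A, B, C)))) = n * f (fold L) * n⁻¹ := by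
    intro L hL
    rw [c.emb.fold (fun g hg => by obtain ⟨k, hk, rfl⟩ := List.mem_map.1 hg; exact (hsub k (hL k hk)).2.1),
      c.emb.fold (fun g hg => (hsub g (hL g hg)).1), ← MulAut.conj_apply, map_list_prod, List.map_map, List.map_map]
    exact congrArg List.prod (List.map_congr_left fun g hg => (hsub g (hL g hg)).2.2)
  have hrel : ∀ p ∈ rels, fold (p.1.map (sub (A, B, C))) = fold (p.2.map (sub (A, B, C))) := by
    intro p hp
    obtain ⟨h1, h2, he⟩ := rels_true p hp
    exact c.emb.injective (fold_lt _) (fold_lt _) (by rw [himg _ h1, himg _ h2, he])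
  have hne : ∀ L : List ℕ, (∀ g ∈ L, g = 1 ∨ g = 4 ∨ g = 64) → fold L ≠ 0 →
      fold (L.map (sub (A, B, C))) ≠ 0 := fun L hL hL0 e => hL0 (c.emb.ker _ (fold_lt _) (by
    have := himg L hL
    rw [e, c.emb.one, eq_comm, mul_inv_eq_one, mul_eq_left] at this
    exact this))
  have hv : validA A = true ∧ validB A B = true ∧ validS A B C = true := by
    have h := hrel
    simp [rels, sub] at h
    obtain ⟨h1, h2, h3, h4, h5, h6, h7⟩ := h
    have hz := hne zWord (by decide) zWord_ne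
    have ha := hne [1, 1] (by decide) aa_ne
    simp [zWord, sub] at hz ha
    have e0 : fold [] = 0 := rfl
    simp [validA, validB, validS, h1, h2, h3, h4, h5, h6, h7, ha, hz, e0]
  -- normalise
  have hchk := normChk_eq
  simp only [normChk, List.all_eq_true, List.mem_range, Bool.or_eq_true, Bool.not_eq_true', List.any_eq_true] at hchk
  obtain ⟨g, hg, hmem⟩ := ((((hchk A hA).resolve_left (by simp [hv.1])) B hB).resolve_left (by simp [hv.2.1]))
    C hC |>.resolve_left (by simp [hv.2.2])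
  rw [List.contains_iff_mem] at hmem
  set r : Tr := (cj g A, cj g B, cj g C) with hr'
  set m := f g * n with hm
  have hconj : ∀ x < 128, m * f x * m⁻¹ = f (aut r x) := by
    intro x hx
    have h1 : ∀ k ∈ wd x, f (sub r k) = m * f k * m⁻¹ := by
      intro k hk
      obtain ⟨-, hk2, hk3⟩ := hsub k (wd_mem x hx k hk)
      rw [show sub r k = cj g (sub (A, B, C) k) by simp only [sub, hr']; split_ifs <;> rfl,
        c.emb.cj hg hk2, hk3, hm]
      group
    conv_lhs => rw [← fold_wd x hx, c.emb.fold (fun k hk => (hsub k (wd_mem x hx k hk)).1)]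
    rw [aut, c.emb.fold (fun k hk => by
        obtain ⟨l, hl, rfl⟩ := List.mem_map.1 hk
        rw [show sub r l = cj g (sub (A, B, C) l) by simp only [sub, hr']; split_ifs <;> rfl]
        exact cj_lt _ _),
      ← MulAut.conj_apply, map_list_prod, List.map_map, List.map_map]
    exact congrArg List.prod (List.map_congr_left fun k hk => (h1 k hk).symm)
  have hmP : m ∉ P := fun h => hnP ((Subgroup.mul_mem_cancel_left P ((c.range _).2 ⟨g, hg, rfl⟩)).1 h)
  have hmsq : m * m ∈ P := by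
    rw [show m * m = f g * (n * f g * n⁻¹) * (n * n) by rw [hm]; group]
    exact P.mul_mem (P.mul_mem ((c.range _).2 ⟨g, hg, rfl⟩)
      ((Subgroup.mem_normalizer_iff.1 hn _).1 ((c.range _).2 ⟨g, hg, rfl⟩))) hsq
  obtain ⟨a0, ha0, ea0⟩ := (c.range _).1 hmsq
  have hext : Ext f r a0 m := ⟨c.emb, ha0, hconj, ea0.symm, fun x hx e => hmP (e ▸ (c.range _).2 ⟨x, hx, rfl⟩)⟩
  have hfix : aut r a0 = a0 := c.emb.injective (aut_lt _ _) ha0 (by rw [← hconj a0 ha0, ea0]; group)
  have hinner : ∀ k ∈ ([1, 4, 64] : List ℕ), aut r (aut r k) = cj a0 k := by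
    intro k hk
    have hk' : k < 128 := by fin_cases hk <;> norm_num
    refine c.emb.injective (aut_lt _ _) (cj_lt _ _) ?_
    rw [c.emb.cj ha0 hk', ea0, ← hconj _ (aut_lt _ _), ← hconj _ hk']
    group
  have hp := pairChk_eq
  simp only [pairChk, List.all_eq_true, List.mem_range, Bool.or_eq_true, Bool.not_eq_true',
    List.contains_iff_mem, List.mem_map] at hp
  have hp2 := hp r hmem a0 ha0
  have hcond : (aut r a0 == a0 && ([1, 4, 64] : List ℕ).all fun k => aut r (aut r k) == cj a0 k) = true := by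
    simp only [Bool.and_eq_true, beq_iff_eq, List.all_eq_true]
    exact ⟨hfix, hinner⟩
  rcases hp2 with (h | ⟨e, he, hee⟩) | ⟨e, he, hee⟩
  · rw [hcond] at h; exact absurd h (by simp)
  · exact (hext.not_rank (W := e.2.2) (by
      have := List.all_eq_true.1 witChk_eq e he
      rw [Prod.mk.injEq] at hee
      rwa [hee.1, hee.2] at this) hr).elim
  · rw [Prod.mk.injEq] at hee
    exact ⟨g, hg, e, he, by rw [hee.1, hee.2]; exact hext⟩

theorem good_moves : ∀ e ∈ goodExt, ∃ x : Fin 128, inV1 x.val = true ∧ inV1 (aut e.1 x.val) = false := by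
  decide +kernel

/-- such an element moves the first subgroup of order sixteen -/
theorem moves_of_sq (hr : Cfsg.SectionalPRankLE 2 4 S) (c : Ctx f P) {n : S}
    (hn : n ∈ Subgroup.normalizer (P : Set S)) (hnP : n ∉ P) (hsq : n * n ∈ P) :
    ∃ x ∈ subOf f inV1, n * x * n⁻¹ ∉ subOf f inV1 := by
  obtain ⟨g, hg, e, he, hx⟩ := good_ext hr c hn hnP hsq
  obtain ⟨⟨x, hx1⟩, hv, hv'⟩ := good_moves e he
  refine ⟨f x, (mem_one c).2 ⟨x, hx1, hv, rfl⟩, fun h => ?_⟩
  obtain ⟨y, hy, hy1, ey⟩ := (mem_one c).1 h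
  have h2 : cj g y = aut e.1 x := c.emb.injective (cj_lt _ _) (aut_lt _ _) (by
    rw [c.emb.cj hg hy, ey, ← hx.conj x hx1]
    group)
  have := inV_cj g hg y hy hy1
  rw [h2] at this
  exact Bool.false_ne_true (hv'.symm.trans this)

/-- nothing outside `P` normalises `P` and the first subgroup -/
theorem fix_one_mem (hr : Cfsg.SectionalPRankLE 2 4 S) (h2 : IsPGroup 2 S) (c : Ctx f P) {n : S}
    (hn : n ∈ Subgroup.normalizer (P : Set S)) (hV : n ∈ Subgroup.normalizer (subOf f inV1 : Set S)) : n ∈ P := by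
  classical
  by_contra hnP
  obtain ⟨k, hk⟩ := h2 n
  have hex : ∃ j, n ^ 2 ^ j ∈ P := ⟨k, hk ▸ P.one_mem⟩
  have hspec := Nat.find_spec hex
  rcases hj : Nat.find hex with _ | j
  · exact hnP (by simpa [hj] using hspec)
  · rw [hj, pow_succ, pow_mul, pow_two] at hspec
    obtain ⟨x, hx, hxn⟩ := moves_of_sq hr c (pow_mem hn _) (Nat.find_min hex (by omega : j < Nat.find hex)) hspec
    exact hxn ((Subgroup.mem_normalizer_iff.1 (pow_mem hV (2 ^ j)) x).1 hx)

omit [Finite S] in
theorem subOf_le (c : Ctx f P) (b : ℕ → Bool) : subOf f b ≤ P :=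
  (Subgroup.closure_le P).2 fun _ ⟨i, hi, _, e⟩ => (c.range _).2 ⟨i, hi, e⟩

theorem subOf_normal (c : Ctx f P) {b : ℕ → Bool} (h0 : b 0 = true)
    (hm : ∀ x < 128, ∀ y < 128, b x = true → b y = true → b (pm x y) = true)
    (hj : ∀ g < 128, ∀ x < 128, b x = true → b (cj g x) = true) :
    ∀ a ∈ P, ∀ v ∈ subOf f b, a * v * a⁻¹ ∈ subOf f b := by
  intro a ha v hv
  obtain ⟨g, hg, rfl⟩ := (c.range a).1 ha
  obtain ⟨x, hx, bx, rfl⟩ := (mem_subOf c h0 hm).1 hv
  exact (mem_subOf c h0 hm).2 ⟨cj g x, cj_lt _ _, hj g hg x hx bx, c.emb.cj hg hx⟩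

/-- the two normal elementary abelian subgroups of order sixteen -/
theorem eq_one_or_two (c : Ctx f P) {V : Subgroup S} (hle : V ≤ P)
    (hnorm : ∀ g ∈ P, ∀ v ∈ V, g * v * g⁻¹ ∈ V) (hel : Cfsg.IsElementaryAbelian 2 V) (hcard : Nat.card ↥V = 16) :
    V = subOf f inV1 ∨ V = subOf f inV2 := by
  have hcover : ∀ v ∈ V, v ∈ subOf f inV1 ∨ v ∈ subOf f inV2 := by
    intro v hv
    obtain ⟨x, hx, rfl⟩ := (c.range v).1 (hle hv)
    have hxx : pm x x = 0 :=
      c.emb.ker _ (pm_lt _ _) (by rw [c.emb.mul x hx x hx, ← pow_two]; exact hel.2 _ hv)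
    have hcomm : ((List.range 128).all fun g => pm x (cj g x) == pm (cj g x) x) = true := by
      simp only [List.all_eq_true, List.mem_range, beq_iff_eq]
      intro g hg
      refine c.emb.injective (pm_lt _ _) (pm_lt _ _) ?_
      rw [c.emb.mul x hx _ (cj_lt _ _), c.emb.mul _ (cj_lt _ _) x hx, c.emb.cj hg hx]
      exact congrArg Subtype.val (hel.1.is_comm.comm ⟨_, hv⟩ ⟨_, hnorm _ ((c.range _).2 ⟨g, hg, rfl⟩) _ hv⟩)
    have hor := inV_cover x hx hxx hcomm
    simp only [Bool.or_eq_true, decide_eq_true_eq] at hor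
    rcases hor with h | h
    · exact Or.inl ((mem_one c).2 ⟨x, hx, h, rfl⟩)
    · exact Or.inr ((mem_two c).2 ⟨x, hx, h, rfl⟩)
  by_cases h1 : V ≤ subOf f inV1
  · exact Or.inl (Subgroup.eq_of_le_of_card_ge h1 (by rw [card_subOf c inV_zero.1 inV1_mul inV_card.1, hcard]))
  · obtain ⟨x, hx, hx1⟩ := SetLike.not_le_iff_exists.1 h1
    have hx2 := (hcover x hx).resolve_left hx1
    refine Or.inr (Subgroup.eq_of_le_of_card_ge (fun y hy => ?_)
      (by rw [card_subOf c inV_zero.2 inV2_mul inV_card.2, hcard]))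
    rcases hcover y hy with hy1 | hy2
    · have h3 := (hcover _ (mul_mem hx hy)).resolve_left fun e => hx1 ((Subgroup.mul_mem_cancel_right _ hy1).1 e)
      exact (Subgroup.mul_mem_cancel_left _ hx2).1 h3
    · exact hy2

theorem one_ne_two (c : Ctx f P) : subOf f inV1 ≠ subOf f inV2 := by
  intro h
  have h5 : f 5 ∈ subOf f inV2 := h ▸ (mem_one c).2 ⟨5, by norm_num, by decide +kernel, rfl⟩
  obtain ⟨i, hi, hb, e⟩ := (mem_two c).1 h5
  rw [c.emb.injective hi (by norm_num) e] at hb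
  exact absurd hb (by decide +kernel)

/-- conjugates of the two subgroups by a normalising element -/
theorem conj_one_or_two (c : Ctx f P) {b : ℕ → Bool} (h0 : b 0 = true)
    (hm : ∀ x < 128, ∀ y < 128, b x = true → b y = true → b (pm x y) = true)
    (hj : ∀ g < 128, ∀ x < 128, b x = true → b (cj g x) = true)
    (hb : ((List.range 128).filter b).length = 16) (hel : Cfsg.IsElementaryAbelian 2 (subOf f b)) {n : S}
    (hn : n ∈ Subgroup.normalizer (P : Set S)) :
    (subOf f b).map (MulAut.conj n).toMonoidHom = subOf f inV1 ∨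
      (subOf f b).map (MulAut.conj n).toMonoidHom = subOf f inV2 := by
  refine eq_one_or_two c ?_ ?_ ⟨?_, ?_⟩ ?_
  · rintro _ ⟨v, hv, rfl⟩
    exact (Subgroup.mem_normalizer_iff.1 hn v).1 (subOf_le c b hv)
  · rintro g hg _ ⟨v, hv, rfl⟩
    have hg' : n⁻¹ * g * n ∈ P := by
      have := (Subgroup.mem_normalizer_iff.1 (inv_mem hn) g).1 hg
      rwa [inv_inv] at this
    exact ⟨_, subOf_normal c h0 hm hj _ hg' v hv, by simp [MulAut.conj_apply, mul_assoc]⟩
  · exact ⟨⟨by
      rintro ⟨_, a, ha, rfl⟩ ⟨_, a', ha', rfl⟩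
      refine Subtype.ext ?_
      show (MulAut.conj n).toMonoidHom a * (MulAut.conj n).toMonoidHom a' = _ * _
      exact ((map_mul _ _ _).symm.trans (congrArg _ (congrArg Subtype.val
        (hel.1.is_comm.comm ⟨a, ha⟩ ⟨a', ha'⟩)))).trans (map_mul _ _ _)⟩⟩
  · rintro _ ⟨a, ha, rfl⟩
    rw [← map_pow, hel.2 a ha, map_one]
  · rw [Subgroup.card_map_of_injective (f := (MulAut.conj n).toMonoidHom) (MulAut.conj n).injective,
      card_subOf c h0 hm hb]

omit [Finite S] in
theorem normalizer_of_map_eq {V : Subgroup S} [Finite ↥V] {n : S} (h : V.map (MulAut.conj n).toMonoidHom = V) :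
    n ∈ Subgroup.normalizer (V : Set S) := by
  refine Subgroup.mem_normalizer_iff.2 fun x => ⟨fun hx => h ▸ ⟨x, hx, rfl⟩, fun hx => ?_⟩
  rw [← h] at hx
  obtain ⟨y, hy, e⟩ := hx
  exact (MulAut.conj n).injective e ▸ hy

theorem inV1_el : (∀ x < 128, ∀ y < 128, inV1 x = true → inV1 y = true → pm x y = pm y x) ∧
    ∀ x < 128, inV1 x = true → pm x x = 0 := by decide +kernel

theorem inV2_el : (∀ x < 128, ∀ y < 128, inV2 x = true → inV2 y = true → pm x y = pm y x) ∧
    ∀ x < 128, inV2 x = true → pm x x = 0 := by decide +kernel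

theorem elementary_subOf (c : Ctx f P) {b : ℕ → Bool} (h0 : b 0 = true)
    (hm : ∀ x < 128, ∀ y < 128, b x = true → b y = true → b (pm x y) = true)
    (he : (∀ x < 128, ∀ y < 128, b x = true → b y = true → pm x y = pm y x) ∧
      ∀ x < 128, b x = true → pm x x = 0) : Cfsg.IsElementaryAbelian 2 (subOf f b) := by
  refine ⟨⟨⟨?_⟩⟩, ?_⟩
  · rintro ⟨_, hu⟩ ⟨_, hv⟩
    obtain ⟨x, hx, bx, rfl⟩ := (mem_subOf c h0 hm).1 hu
    obtain ⟨y, hy, bq, rfl⟩ := (mem_subOf c h0 hm).1 hv
    refine Subtype.ext ?_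
    show f x * f y = f y * f x
    rw [← c.emb.mul x hx y hy, he.1 x hx y hy bx bq, c.emb.mul y hy x hx]
  · intro a ha
    obtain ⟨x, hx, bx, rfl⟩ := (mem_subOf c h0 hm).1 ha
    rw [pow_two, ← c.emb.mul x hx x hx, he.2 x hx bx, c.emb.one]

/-- outside `P` the normaliser exchanges the two subgroups -/
theorem exchanges (hr : Cfsg.SectionalPRankLE 2 4 S) (h2 : IsPGroup 2 S) (c : Ctx f P) {n : S}
    (hn : n ∈ Subgroup.normalizer (P : Set S)) (hnP : n ∉ P) :
    (subOf f inV1).map (MulAut.conj n).toMonoidHom = subOf f inV2 ∧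
      (subOf f inV2).map (MulAut.conj n).toMonoidHom = subOf f inV1 := by
  have e1 := (conj_one_or_two c inV_zero.1 inV1_mul inV_cj inV_card.1
    (elementary_subOf c inV_zero.1 inV1_mul inV1_el) hn).resolve_left
      fun e => hnP (fix_one_mem hr h2 c hn (normalizer_of_map_eq e))
  refine ⟨e1, (conj_one_or_two c inV_zero.2 inV2_mul inV2_cj inV_card.2
    (elementary_subOf c inV_zero.2 inV2_mul inV2_el) hn).resolve_right fun e => one_ne_two c ?_⟩
  exact Subgroup.map_injective (f := (MulAut.conj n).toMonoidHom) (MulAut.conj n).injective (e1.trans e.symm)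

theorem mul_mem_of_not_mem (hr : Cfsg.SectionalPRankLE 2 4 S) (h2 : IsPGroup 2 S) (c : Ctx f P) {a b : S}
    (ha : a ∈ Subgroup.normalizer (P : Set S)) (haP : a ∉ P)
    (hb : b ∈ Subgroup.normalizer (P : Set S)) (hbP : b ∉ P) : a * b ∈ P := by
  refine fix_one_mem hr h2 c (mul_mem ha hb) (normalizer_of_map_eq ?_)
  rw [show (MulAut.conj (a * b)).toMonoidHom = (MulAut.conj a).toMonoidHom.comp (MulAut.conj b).toMonoidHom by
    rw [map_mul]; rfl, ← Subgroup.map_map, (exchanges hr h2 c hb hbP).1, (exchanges hr h2 c ha haP).2]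

theorem exists_normalizing (h2 : IsPGroup 2 S) {K : Subgroup S} (hlt : P < K) :
    ∃ n ∈ K, n ∈ Subgroup.normalizer (P : Set S) ∧ n ∉ P := by
  haveI : Fact (Nat.Prime 2) := ⟨Nat.prime_two⟩
  haveI : Group.IsNilpotent ↥K := (h2.to_subgroup K).isNilpotent
  have hne : P.subgroupOf K < ⊤ := lt_top_iff_ne_top.2 fun e => hlt.not_ge (Subgroup.subgroupOf_eq_top.1 e)
  obtain ⟨⟨n, hnK⟩, hn1, hn2⟩ := SetLike.exists_of_lt (Group.normalizerCondition_of_isNilpotent _ hne)
  refine ⟨n, hnK, Subgroup.mem_normalizer_iff.2 fun x => ⟨fun hx => ?_, fun hx => ?_⟩, fun e => hn2 e⟩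
  · exact (Subgroup.mem_normalizer_iff.1 hn1 ⟨x, hlt.le hx⟩).1 hx
  · have hxK : x ∈ K := by
      have := K.mul_mem (K.mul_mem (K.inv_mem hnK) (hlt.le hx)) hnK
      simpa [mul_assoc] using this
    exact (Subgroup.mem_normalizer_iff.1 hn1 ⟨x, hxK⟩).2 hx

section quotient

attribute [local irreducible] phi fold pm aut

/-- a good extension covering the normaliser is `D8 ≀ C2` modulo the centre -/
theorem quotient_equiv (c : Ctx f P) {T : Tr} {a0 : ℕ} {im : ℕ × ℕ × ℕ × ℕ} {m : S} (hx : Ext f T a0 m)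
    (hchk : projChk T a0 im = true) (hmN : m ∈ Subgroup.normalizer (P : Set S))
    (ix : ↥(Subgroup.normalizer (P : Set S)) → ℕ) (hix : ∀ x, ix x < 256)
    (hixe : ∀ x, Fe f m (ix x) = (x : S)) (hcenter : ∀ z, z ∈ Subgroup.center S ↔ z = 1 ∨ z = f 18) :
    ∃ (_ : ((Subgroup.center S).subgroupOf (Subgroup.normalizer (P : Set S))).Normal)
      (T : Sylow 2 (Equiv.Perm (Fin 8))),
      Nonempty (↥(Subgroup.normalizer (P : Set S)) ⧸ (Subgroup.center S).subgroupOf (Subgroup.normalizer (P : Set S)) ≃*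
        ↥(T : Subgroup (Equiv.Perm (Fin 8)))) := by
  simp only [projChk, Bool.and_eq_true, List.all_eq_true, List.mem_range, List.any_eq_true, beq_iff_eq,
    Bool.or_eq_true, Bool.not_eq_true', beq_eq_false_iff_ne, ne_eq, List.contains_iff_mem] at hchk
  obtain ⟨⟨⟨hall, h00⟩, h180⟩, hsurj⟩ := hchk
  let Pf : ℕ → Equiv.Perm (Fin 8) := fun i => phi (proj im i)
  have hp : ∀ i, proj im i < 128 := fun _ => fold_lt _
  have hgen : ∀ i < 256, ∀ k ∈ ([1, 4, 64, 128] : List ℕ), Pf (me T a0 i k) = Pf i * Pf k := fun i hi k hk => by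
    show phi _ = phi _ * phi _
    rw [(hall i hi).1.1.1 k hk, phi_mul _ (hp _) _ (hp _)]
  have hhom : ∀ i < 256, ∀ j < 256, Pf (me T a0 i j) = Pf i * Pf j := by
    have key : ∀ (L : List ℕ), (∀ k ∈ L, k ∈ ([1, 4, 64, 128] : List ℕ)) → ∀ a < 256,
        (∀ i < 256, Pf (me T a0 i a) = Pf i * Pf a) →
          ∀ i < 256, Pf (me T a0 i (L.foldl (me T a0) a)) = Pf i * Pf (L.foldl (me T a0) a) := by
      intro L
      induction L with
      | nil => exact fun _ a _ h => h
      | cons k L ih =>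
        intro hL a ha h
        have hk := hL k List.mem_cons_self
        have hk' : k < 256 := by fin_cases hk <;> norm_num
        refine ih (fun l hl => hL l (List.mem_cons_of_mem _ hl)) _ (me_lt hk') fun i hi => ?_
        have hass : me T a0 i (me T a0 a k) = me T a0 (me T a0 i a) k :=
          hx.injective (me_lt (me_lt hk')) (me_lt hk')
            (by rw [hx.mul hi (me_lt hk'), hx.mul ha hk', hx.mul (me_lt ha) hk', hx.mul hi ha, mul_assoc])
        rw [hass, hgen _ (me_lt ha) k hk, hgen a ha k hk, h i hi, mul_assoc]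
    intro i hi j hj
    have h := key (wd' j) (hall j hj).2 0 (by norm_num) (fun k hk => by
      have e1 : me T a0 k 0 = k :=
        hx.injective (me_lt (by norm_num)) hk (by rw [hx.mul hk (by norm_num), hx.one, mul_one])
      rw [e1, show Pf 0 = 1 by show phi (proj im 0) = 1; rw [h00, phi_zero], mul_one]) i hi
    rwa [(hall j hj).1.2] at h
  let ψ : ↥(Subgroup.normalizer (P : Set S)) →* ↥T0 := MonoidHom.mk'
    (fun x => ⟨Pf (ix x), proj im (ix x), hp _, rfl⟩) fun x y => Subtype.ext (by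
      have e1 : ix (x * y) = me T a0 (ix x) (ix y) :=
        hx.injective (hix _) (me_lt (hix _)) (by rw [hixe, hx.mul (hix _) (hix _), hixe, hixe]; rfl)
      show Pf (ix (x * y)) = Pf (ix x) * Pf (ix y)
      rw [e1, hhom _ (hix _) _ (hix _)])
  have hψ : Function.Surjective ψ := by
    rintro ⟨_, k, hk, rfl⟩
    obtain ⟨i, hi, hik⟩ := hsurj k hk
    have hmem : Fe f m i ∈ Subgroup.normalizer (P : Set S) :=
      mul_mem (Subgroup.le_normalizer ((c.range _).2 ⟨_, Nat.mod_lt _ (by norm_num), rfl⟩)) (pow_mem hmN _)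
    refine ⟨⟨_, hmem⟩, Subtype.ext ?_⟩
    show phi (proj im (ix ⟨_, hmem⟩)) = phi k
    rw [hx.injective (hix _) hi (hixe ⟨_, hmem⟩), hik]
  have hval : ∀ x, ((ψ x : ↥T0) : Equiv.Perm (Fin 8)) = phi (proj im (ix x)) := fun _ => rfl
  have hker : ψ.ker = (Subgroup.center S).subgroupOf (Subgroup.normalizer (P : Set S)) := by
    ext x
    rw [MonoidHom.mem_ker, Subgroup.mem_subgroupOf, hcenter, ← hixe x]
    have hv : ψ x = 1 ↔ proj im (ix x) = 0 :=
      ⟨fun h => phi_ker _ (hp _) (by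
        have h1 := congrArg (fun z : ↥T0 => (z : Equiv.Perm (Fin 8))) h
        simpa only [hval, OneMemClass.coe_one] using h1), fun h => Subtype.ext (by
        show phi (proj im (ix x)) = 1
        rw [h, phi_zero])⟩
    rw [hv]
    constructor
    · intro h
      rcases (hall _ (hix x)).1.1.2 with h1 | h1
      · rcases h1 with h1 | h1
        · exact absurd h h1
        · exact Or.inl (by rw [h1, hx.one])
      · exact Or.inr (by simp [h1, Fe])
    · rintro (h | h)
      · rw [hx.injective (hix x) (by norm_num : 0 < 256) (h.trans hx.one.symm)]; exact h00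
      · rw [hx.injective (hix x) (by norm_num : 18 < 256) (by simpa [Fe] using h)]; exact h180
  haveI hnor : ((Subgroup.center S).subgroupOf (Subgroup.normalizer (P : Set S))).Normal :=
    hker ▸ MonoidHom.normal_ker ψ
  exact ⟨hnor, T0Syl, ⟨((QuotientGroup.quotientMulEquivOfEq hker.symm).trans
    (QuotientGroup.quotientKerEquivOfSurjective ψ hψ)).trans (MulEquiv.subgroupCongr coe_T0Syl).symm⟩⟩

end quotient

/-- the statement -/
theorem main (h2 : IsPGroup 2 S) (hr : Cfsg.SectionalPRankLE 2 4 S) (hPlt : P ≠ ⊤)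
    (hP : ∃ T : Sylow 2 (Equiv.Perm (Fin 8)), Nonempty (↥P ≃* ↥(T : Subgroup (Equiv.Perm (Fin 8))))) :
    Subgroup.center S = (Subgroup.center ↥P).map P.subtype ∧ Nat.card ↥(Subgroup.center S) = 2 ∧
    P.relIndex (Subgroup.normalizer (P : Set S)) = 2 ∧
    (∃ (_ : ((Subgroup.center S).subgroupOf (Subgroup.normalizer (P : Set S))).Normal)
      (T : Sylow 2 (Equiv.Perm (Fin 8))),
      Nonempty (↥(Subgroup.normalizer (P : Set S)) ⧸ (Subgroup.center S).subgroupOf (Subgroup.normalizer (P : Set S)) ≃*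
        ↥(T : Subgroup (Equiv.Perm (Fin 8))))) ∧
    ∀ V : Subgroup S, V ≤ P → (∀ g ∈ P, ∀ v ∈ V, g * v * g⁻¹ ∈ V) → Cfsg.IsElementaryAbelian 2 V →
      Nat.card ↥V = 16 → Subgroup.normalizer (V : Set S) = P := by
  classical
  haveI : Fact (Nat.Prime 2) := ⟨Nat.prime_two⟩
  obtain ⟨f, c⟩ := exists_ctx hP
  have hlt : P < ⊤ := lt_top_iff_ne_top.2 hPlt
  obtain ⟨n0, -, hn0, hn0P⟩ := exists_normalizing h2 hlt
  -- the centre
  have h18 : f 18 ≠ 1 := fun e => absurd (c.emb.ker 18 (by norm_num) e) (by norm_num)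
  haveI : Nontrivial S := ⟨⟨f 18, 1, h18⟩⟩
  have hcent : ∀ z, (∀ x ∈ P, z * x = x * z) → z = 1 ∨ z = f 18 := by
    intro z hz
    have hfix : ∀ y ∈ P, z * y * z⁻¹ = y := fun y hy => by rw [hz y hy, mul_inv_cancel_right]
    have hfix' : ∀ H : Subgroup S, H ≤ P → z ∈ Subgroup.normalizer (H : Set S) := fun H hH => by
      refine Subgroup.mem_normalizer_iff.2 fun y => ⟨fun hy => (hfix y (hH hy)).symm ▸ hy, fun hy => ?_⟩
      have h1 := hfix _ (hH hy)
      have h2 : z * y * z⁻¹ = y := mul_left_cancel (a := z) (mul_right_cancel (b := z⁻¹) (by simpa [mul_assoc] using h1))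
      rwa [h2] at hy
    obtain ⟨x, hx, rfl⟩ := (c.range z).1 (fix_one_mem hr h2 c (hfix' P le_rfl) (hfix' _ (subOf_le c inV1)))
    have hcm : ∀ k < 128, pm x k = pm k x := fun k hk => c.emb.injective (pm_lt _ _) (pm_lt _ _)
      (by rw [c.emb.mul x hx k hk, c.emb.mul k hk x hx, hz _ ((c.range _).2 ⟨k, hk, rfl⟩)])
    rcases center_chk x hx (hcm 1 (by norm_num)) (hcm 4 (by norm_num)) (hcm 64 (by norm_num)) with rfl | rfl
    · exact Or.inl c.emb.one
    · exact Or.inr rfl
  have hz18 : f 18 ∈ Subgroup.center S := by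
    haveI := h2.center_nontrivial
    obtain ⟨⟨z, hz⟩, hz1⟩ := exists_ne (1 : ↥(Subgroup.center S))
    rcases hcent z (fun x _ => (Subgroup.mem_center_iff.1 hz x).symm) with rfl | rfl
    · exact absurd rfl hz1
    · exact hz
  have hcenter : ∀ z, z ∈ Subgroup.center S ↔ z = 1 ∨ z = f 18 := fun z =>
    ⟨fun hz => hcent z fun x _ => (Subgroup.mem_center_iff.1 hz x).symm, by
      rintro (rfl | rfl)
      exacts [one_mem _, hz18]⟩
  have h18P : f 18 ∈ P := (c.range _).2 ⟨18, by norm_num, rfl⟩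
  have hZ : Subgroup.center S = (Subgroup.center ↥P).map P.subtype := by
    ext z
    constructor
    · intro hz
      have hzP : z ∈ P := by rcases (hcenter z).1 hz with rfl | rfl <;> [exact P.one_mem; exact h18P]
      exact ⟨⟨z, hzP⟩, Subgroup.mem_center_iff.2 fun y => Subtype.ext (Subgroup.mem_center_iff.1 hz y), rfl⟩
    · rintro ⟨⟨z, hzP⟩, hz, rfl⟩
      exact (hcenter z).2 (hcent z fun x hx =>
        (congrArg Subtype.val (Subgroup.mem_center_iff.1 hz ⟨x, hx⟩)).symm)
  have hZcard : Nat.card ↥(Subgroup.center S) = 2 := by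
    rw [Nat.card_eq_two_iff' ⟨1, one_mem _⟩]
    exact ⟨⟨f 18, hz18⟩, fun e => h18 (congrArg Subtype.val e), fun ⟨z, hz⟩ hne =>
      Subtype.ext (((hcenter z).1 hz).resolve_left fun e => hne (Subtype.ext e))⟩
  -- the index
  have hidx : P.relIndex (Subgroup.normalizer (P : Set S)) = 2 := by
    rw [Subgroup.relIndex, Subgroup.index_eq_two_iff]
    refine ⟨⟨n0, hn0⟩, fun b => ?_⟩
    simp only [Subgroup.mem_subgroupOf, Subgroup.coe_mul]
    rw [xor_iff_iff_not]
    exact ⟨fun h hb => hn0P ((Subgroup.mul_mem_cancel_left _ hb).1 h),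
      fun hb => mul_mem_of_not_mem hr h2 c b.2 hb hn0 hn0P⟩
  refine ⟨hZ, hZcard, hidx, ?_, ?_⟩
  · -- the quotient
    obtain ⟨g, hg, e, he, hx⟩ := good_ext hr c hn0 hn0P (mul_mem_of_not_mem hr h2 c hn0 hn0P hn0 hn0P)
    set m := f g * n0
    have hmN : m ∈ Subgroup.normalizer (P : Set S) :=
      mul_mem (Subgroup.le_normalizer ((c.range _).2 ⟨g, hg, rfl⟩)) hn0
    have hmP : m ∉ P := fun h => hn0P ((Subgroup.mul_mem_cancel_left P ((c.range _).2 ⟨g, hg, rfl⟩)).1 h)
    have hcode : ∀ x : ↥(Subgroup.normalizer (P : Set S)), ∃ i < 256, Fe f m i = (x : S) := by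
      intro x
      by_cases hxP : (x : S) ∈ P
      · obtain ⟨i, hi, e⟩ := (c.range _).1 hxP
        refine ⟨i, by omega, ?_⟩
        rw [Fe, Nat.mod_eq_of_lt hi, Nat.div_eq_of_lt hi, pow_zero, mul_one, e]
      · have : (x : S) * m⁻¹ ∈ P :=
          mul_mem_of_not_mem hr h2 c x.2 hxP (inv_mem hmN) fun h => hmP (inv_inv m ▸ P.inv_mem h)
        obtain ⟨i, hi, e⟩ := (c.range _).1 this
        refine ⟨i + 128, by omega, ?_⟩
        rw [Fe, show (i + 128) % 128 = i by omega, show (i + 128) / 128 = 1 by omega, pow_one, e,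
          inv_mul_cancel_right]
    choose ix hix hixe using hcode
    have hchk := List.all_eq_true.1 projChk_eq e he
    exact quotient_equiv c hx hchk hmN ix hix hixe hcenter
  · -- normalisers of the subgroups of order sixteen
    intro V hVP hVn hVe hVc
    have hle : P ≤ Subgroup.normalizer (V : Set S) := fun a ha =>
      Subgroup.mem_normalizer_iff.2 fun v => ⟨fun hv => hVn a ha v hv, fun hv => by
        have := hVn a⁻¹ (P.inv_mem ha) _ hv
        simpa [mul_assoc] using this⟩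
    refine (le_antisymm hle ?_).symm
    by_contra hnot
    obtain ⟨n, hnV, hn, hnP⟩ := exists_normalizing h2 (lt_of_le_of_ne hle fun e => hnot e.ge)
    have hmap : V.map (MulAut.conj n).toMonoidHom = V := by
      refine Subgroup.eq_of_le_of_card_ge ?_ (Subgroup.card_map_of_injective (MulAut.conj n).injective).ge
      rintro _ ⟨v, hv, rfl⟩
      exact (Subgroup.mem_normalizer_iff.1 hnV v).1 hv
    rcases eq_one_or_two c hVP hVn hVe hVc with rfl | rfl
    · exact one_ne_two c (hmap.symm.trans (exchanges hr h2 c hn hnP).1)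
    · exact one_ne_two c ((exchanges hr h2 c hn hnP).2.symm.trans hmap)

end CfsgLib.FgsC.Wreath
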